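import Cfsg.Agent.H665.RIM.Defs
import Cfsg.Agent.S2043
import Cfsg.Agent.H990.TC.Univ
import Cfsg.Agent.H843.IMC.Co1B
import Cfsg.Agent.ConwayFacts.AutCo1
import Cfsg.Agent.Blocks.CliffordCentral

/-!
# S4816, row `Co1`: faithful characters of `Co0` (helper274, task 6295 of helper764)

`nball_of_co0` : an irreducible character of `Co0` of degree divisible by `p` with `χ(-1) = -χ(1)` gives `NBall p Co1`.
-/

set_option autoImplicit false

namespace Cfsg.Agent.H274.RIM

open Cfsg Cfsg.Agent.H51.Mult Cfsg.Agent.H665.RIM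
open Cfsg.Agent.SporadicA.GolayBase Cfsg.Agent.SporadicA.Co0Mono Cfsg.Agent.SporadicA.Co1Simple
open Cfsg.Agent.CoOneType.CoOneE (pr pr_surjective mem_center_iff allOne_ne)

universe u

theorem pce_pr : PCE pr where
  surj := pr_surjective
  cen := by
    show (QuotientGroup.mk' (Subgroup.center Co0)).ker ≤ _
    rw [QuotientGroup.ker_mk']
  perf := Cfsg.Agent.ConwayFacts.AutCo1.commutator_Co0

theorem card_ker_pr : Nat.card pr.ker = 2 := by
  show Nat.card (QuotientGroup.mk' (Subgroup.center Co0)).ker = 2
  rw [QuotientGroup.ker_mk']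
  exact Cfsg.Agent.S0398.result

theorem card_mult : Nat.card (Multiplicative (ZMod 2)) = 2 :=
  (Nat.card_congr Multiplicative.toAdd).trans (Nat.card_zmod 2)

/-- **From `Co0` to `NBall p Co1`.** -/
theorem nball_of_co0 {p : ℕ} {χ : Co0 → ℂ} (hχ : IsIrrCharacter Co0 χ) (hneg : χ (signCo0 allOne) = - χ 1)
    (hp : p ∣ charDegree χ) {S : Type u} [Group S] [Finite S] (hS : Spor.IsoCo1 S) : NBall p S := by
  obtain ⟨e⟩ := hS
  intro m hm _ E _ _ π hπ hker hcomm hcard l hl
  let π' : E →* Spor.Co1 := e.toMonoidHom.comp π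
  have hk : π'.ker = π.ker := by
    ext x
    rw [MonoidHom.mem_ker, MonoidHom.mem_ker]
    exact e.map_eq_one_iff
  have hπ' : PCE π' := ⟨e.surjective.comp hπ, by rw [hk]; exact hker, hcomm⟩
  have hM : Cfsg.HasCyclicSchurMultiplier Spor.Co1 2 := Cfsg.Agent.S2043.result
  have h2 : m = 2 := by
    have h1 := H990.TC.card_ker_dvd hM hπ'
    rw [hk, hcard, card_mult] at h1
    have h3 := Nat.le_of_dvd (by norm_num) h1
    omega
  subst h2
  obtain ⟨θ, hθ⟩ := H990.TC.exists_surj_of_card hM pce_pr (by rw [card_ker_pr, card_mult]) hπ'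
  have hE : Nat.card E = Nat.card Co0 := by
    rw [← Subgroup.card_mul_index π'.ker, ← Subgroup.card_mul_index pr.ker, hk, hcard, card_ker_pr, ← hk,
      Subgroup.index_ker, Subgroup.index_ker, MonoidHom.range_eq_top.2 hπ'.surj, MonoidHom.range_eq_top.2 pr_surjective]
  have hbij : Function.Bijective θ := by
    have := Fintype.ofFinite E
    have := Fintype.ofFinite Co0
    rw [Fintype.bijective_iff_surjective_and_card]
    exact ⟨hθ, by rw [← Nat.card_eq_fintype_card, ← Nat.card_eq_fintype_card, hE]⟩
  let f : Co0 ≃* E := MulEquiv.ofBijective θ hbij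
  refine ⟨fun g => χ (f.symm g), Cfsg.Agent.Blocks.CliffordCentral.isIrrCharacter_comp hχ f.symm.toMonoidHom
    f.symm.surjective, ?_, ?_⟩
  · intro z
    have hz : f.symm z ∈ Subgroup.center Co0 := by
      rw [Subgroup.mem_center_iff]
      intro g
      have h3 := Subgroup.mem_center_iff.1 (hker z.2) (f g)
      apply f.injective
      rw [map_mul, map_mul, MulEquiv.apply_symm_apply]
      exact h3
    show χ (f.symm z) = χ (f.symm 1) * l z
    rw [map_one]
    rcases (mem_center_iff _).1 hz with h3 | h3
    · have h4 : z = 1 := by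
        apply Subtype.ext
        have h5 := congrArg f h3
        rwa [MulEquiv.apply_symm_apply, map_one] at h5
      rw [h3, h4, map_one, Units.val_one, mul_one]
    · have h4 : z ≠ 1 := by
        rintro rfl
        rw [Subgroup.coe_one, map_one] at h3
        exact allOne_ne h3.symm
      have h5 : l z * l z = 1 := by
        have h6 : z * z = 1 := by
          apply Subtype.ext
          apply f.symm.injective
          rw [Subgroup.coe_mul, map_mul, h3, Subgroup.coe_one, map_one, ← signCo0_add,
            Cfsg.Agent.CoOneType.CoOneE.allOne_add_self, signCo0_zero]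
        rw [← map_mul, h6, map_one]
      have h7 : ((l z : ℂˣ) : ℂ) = -1 := by
        have h8 : ((l z : ℂˣ) : ℂ) * ((l z : ℂˣ) : ℂ) = 1 := by
          rw [← Units.val_mul, h5, Units.val_one]
        rcases mul_self_eq_one_iff.1 h8 with h9 | h9
        · exfalso
          apply h4
          apply hl
          rw [map_one]
          exact Units.ext h9
        · exact h9
      rw [h3, hneg, h7, mul_neg, mul_one]
  · show p ∣ ⌊(χ (f.symm 1)).re⌋₊
    rw [map_one]
    exact hp

end Cfsg.Agent.H274.RIM
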